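import Mathlib

/-!
# Lifting a ladder of maps to injective resolutions of left exact sequences
-/

set_option autoImplicit false
set_option maxHeartbeats 1000000

universe u v

open CategoryTheory CategoryTheory.Limits

namespace Groth.Agent.CechLadder

variable {V : Type u} [Category.{v} V] [Abelian V]

/-- A map into an injective object extends along any map that does not kill more. -/
theorem ext_one {A C J : V} [Injective J] (a : A ⟶ C) (w : A ⟶ J)
    (h : ∀ (T : V) (x : T ⟶ A), x ≫ a = 0 → x ≫ w = 0) : ∃ f : C ⟶ J, a ≫ f = w := by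
  let q := Abelian.coimage.π a
  let m := Abelian.factorThruCoimage a
  have hw : kernel.ι a ≫ w = 0 := h _ _ (kernel.condition a)
  let w' : Abelian.coimage a ⟶ J := cokernel.desc _ w hw
  refine ⟨Injective.factorThru w' m, ?_⟩
  refine (congrArg (· ≫ Injective.factorThru w' m) (Abelian.coimage.fac a).symm).trans ?_
  show (q ≫ m) ≫ Injective.factorThru w' m = w
  rw [Category.assoc, Injective.comp_factorThru]
  exact cokernel.π_desc _ _ _

/-- Two compatible maps into an injective object have a common extension. -/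
theorem ext_two {A B C J : V} [Injective J] (a : A ⟶ C) (b : B ⟶ C) (u : A ⟶ J) (w : B ⟶ J)
    (h : ∀ (T : V) (x : T ⟶ A) (y : T ⟶ B), x ≫ a = y ≫ b → x ≫ u = y ≫ w) :
    ∃ f : C ⟶ J, a ≫ f = u ∧ b ≫ f = w := by
  obtain ⟨f, hf⟩ := ext_one (biprod.desc a b) (biprod.desc u w) fun T z hz => by
    rw [biprod.desc_eq, Preadditive.comp_add, ← Category.assoc, ← Category.assoc] at hz
    have := h T (z ≫ biprod.fst) (-(z ≫ biprod.snd))
      (by rw [Preadditive.neg_comp, ← add_eq_zero_iff_eq_neg]; exact hz)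
    rw [biprod.desc_eq, Preadditive.comp_add, ← Category.assoc, ← Category.assoc, this,
      Preadditive.neg_comp, neg_add_cancel]
  exact ⟨f, by simpa using congrArg (fun t => biprod.inl ≫ t) hf,
    by simpa using congrArg (fun t => biprod.inr ≫ t) hf⟩

theorem exact_refine (K : CochainComplex V ℕ) (n : ℕ) (h : K.ExactAt (n + 1)) {T : V}
    (y : T ⟶ K.X (n + 1)) (hy : y ≫ K.d (n + 1) (n + 2) = 0) :
    ∃ (T' : V) (π : T' ⟶ T) (_ : Epi π) (e : T' ⟶ K.X n), π ≫ y = e ≫ K.d n (n + 1) := by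
  rw [K.exactAt_iff' n (n + 1) (n + 2) (by simp) (by simp),
    ShortComplex.exact_iff_exact_up_to_refinements] at h
  exact h y hy

/-- The map sends cocycles to cocycles. -/
def PresCyc {K L : CochainComplex V ℕ} (n : ℕ) (f : K.X n ⟶ L.X n) : Prop :=
  ∀ (T : V) (x : T ⟶ K.X n), x ≫ K.d n (n + 1) = 0 → x ≫ f ≫ L.d n (n + 1) = 0

theorem presCyc_of_cycles {K L : CochainComplex V ℕ} (f : K.X 0 ⟶ L.X 0) (z : K.cycles 0 ⟶ L.cycles 0)
    (h : K.iCycles 0 ≫ f = z ≫ L.iCycles 0) : PresCyc 0 f := by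
  intro T x hx
  obtain ⟨c, rfl⟩ : ∃ c, c ≫ K.iCycles 0 = x := ⟨K.liftCycles x 1 (by simp) hx, K.liftCycles_i _ _ _ _⟩
  rw [Category.assoc, ← Category.assoc (K.iCycles 0), h]
  simp

theorem presCyc_next {K L : CochainComplex V ℕ} {n : ℕ} (hK : K.ExactAt (n + 1)) (f : K.X n ⟶ L.X n)
    (f' : K.X (n + 1) ⟶ L.X (n + 1)) (h : K.d n (n + 1) ≫ f' = f ≫ L.d n (n + 1)) :
    PresCyc (n + 1) f' := by
  intro T x hx
  obtain ⟨T', π, _, e, he⟩ := exact_refine K n hK x hx
  rw [← cancel_epi π, comp_zero, ← Category.assoc, he, Category.assoc, ← Category.assoc (K.d _ _), h,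
    Category.assoc, L.d_comp_d, comp_zero, comp_zero]

variable (C' C C'' I' I I'' : CochainComplex V ℕ)
    (jC : C' ⟶ C) (πC : C ⟶ C'') (jI : I' ⟶ I) (πI : I ⟶ I'')

/-- The ladder in one degree. -/
structure St (n : ℕ) where
  f' : C'.X n ⟶ I'.X n
  f : C.X n ⟶ I.X n
  f'' : C''.X n ⟶ I''.X n
  comm₁ : jC.f n ≫ f = f' ≫ jI.f n
  comm₂ : πC.f n ≫ f'' = f ≫ πI.f n
  cyc' : PresCyc n f'
  cyc : PresCyc n f
  cyc'' : PresCyc n f''

variable {C' C C'' I' I I'' jC πC jI πI}
    (mC : ∀ n, Mono (jC.f n)) (wC : ∀ n, jC.f n ≫ πC.f n = 0)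
    (exC : ∀ n, (ShortComplex.mk (jC.f n) (πC.f n) (wC n)).Exact)
    (wI : ∀ n, jI.f n ≫ πI.f n = 0)
    (hC' : ∀ n, 0 < n → C'.ExactAt n) (hC : ∀ n, 0 < n → C.ExactAt n) (hC'' : ∀ n, 0 < n → C''.ExactAt n)
    (injI' : ∀ n, Injective (I'.X n)) (injI : ∀ n, Injective (I.X n)) (injI'' : ∀ n, Injective (I''.X n))

include mC exC wI hC' hC hC'' injI' injI injI''

theorem step {n : ℕ} (s : St C' C C'' I' I I'' jC πC jI πI n) :
    ∃ t : St C' C C'' I' I I'' jC πC jI πI (n + 1),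
      C'.d n (n + 1) ≫ t.f' = s.f' ≫ I'.d n (n + 1) ∧ C.d n (n + 1) ≫ t.f = s.f ≫ I.d n (n + 1) ∧
        C''.d n (n + 1) ≫ t.f'' = s.f'' ≫ I''.d n (n + 1) := by
  have := injI' (n + 1)
  have := injI (n + 1)
  have := injI'' (n + 1)
  have := mC (n + 1 + 1)
  obtain ⟨a', ha'⟩ := ext_one (C'.d n (n + 1)) (s.f' ≫ I'.d n (n + 1)) s.cyc'
  obtain ⟨a, ha, haj⟩ := ext_two (C.d n (n + 1)) (jC.f (n + 1)) (s.f ≫ I.d n (n + 1)) (a' ≫ jI.f (n + 1))
    fun T x y hxy => by
      have hy : y ≫ C'.d (n + 1) (n + 2) = 0 := by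
        rw [← cancel_mono (jC.f (n + 2)), zero_comp, Category.assoc, ← jC.comm, ← Category.assoc, ← hxy,
          Category.assoc, C.d_comp_d, comp_zero]
      obtain ⟨T', π, _, e, he⟩ := exact_refine C' n (hC' _ n.succ_pos) y hy
      have hz : (π ≫ x - e ≫ jC.f n) ≫ C.d n (n + 1) = 0 := by
        simp only [Preadditive.sub_comp, Category.assoc, hxy, jC.comm]
        rw [← Category.assoc π, he, Category.assoc, sub_self]
      have hk := s.cyc T' _ hz
      rw [Preadditive.sub_comp, sub_eq_zero] at hk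
      rw [← cancel_epi π, ← Category.assoc π x, hk, Category.assoc e, ← Category.assoc (jC.f n), s.comm₁,
        Category.assoc, jI.comm, ← Category.assoc s.f', ← ha', ← Category.assoc π y, he]
      simp only [Category.assoc]
  have hC0 : ∀ m, jC.f m ≫ πC.f m = 0 := wC
  obtain ⟨a'', ha'', haπ⟩ := ext_two (C''.d n (n + 1)) (πC.f (n + 1)) (s.f'' ≫ I''.d n (n + 1))
    (a ≫ πI.f (n + 1)) fun T x y hxy => by
      have hπ : (y ≫ C.d (n + 1) (n + 2)) ≫ πC.f (n + 2) = 0 := by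
        rw [Category.assoc, ← πC.comm, ← Category.assoc, ← hxy, Category.assoc, C''.d_comp_d, comp_zero]
      obtain ⟨T₁, π₁, _, c', hc⟩ :=
        ((ShortComplex.mk (jC.f (n + 2)) (πC.f (n + 2)) (wC (n + 2))).exact_iff_exact_up_to_refinements).1
          (exC (n + 2)) (y ≫ C.d (n + 1) (n + 2)) hπ
      dsimp at c' hc
      have hc' : c' ≫ C'.d (n + 2) (n + 3) = 0 := by
        have := mC (n + 3)
        rw [← cancel_mono (jC.f (n + 3)), zero_comp, Category.assoc, ← jC.comm, ← Category.assoc, ← hc]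
        simp
      obtain ⟨T₂, π₂, _, e, he⟩ := exact_refine C' (n + 1) (hC' _ (n + 1).succ_pos) c' hc'
      let π := π₂ ≫ π₁
      have hcyc : (π ≫ y - e ≫ jC.f (n + 1)) ≫ C.d (n + 1) (n + 2) = 0 := by
        simp only [π, Preadditive.sub_comp, Category.assoc, jC.comm]
        rw [hc, ← Category.assoc e, ← he, Category.assoc, sub_self]
      obtain ⟨T₃, π₃, _, b, hb⟩ := exact_refine C n (hC _ n.succ_pos) _ hcyc
      have hbd : b ≫ C.d n (n + 1) = π₃ ≫ π ≫ y - π₃ ≫ e ≫ jC.f (n + 1) := by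
        rw [← hb, Preadditive.comp_sub]
      have hz : (π₃ ≫ π ≫ x - b ≫ πC.f n) ≫ C''.d n (n + 1) = 0 := by
        simp only [Preadditive.sub_comp, Category.assoc, hxy, πC.comm]
        rw [← Category.assoc b, hbd]
        simp only [Preadditive.sub_comp, Category.assoc, hC0, comp_zero, sub_zero, sub_self]
      have hk := s.cyc'' T₃ _ hz
      rw [Preadditive.sub_comp, sub_eq_zero] at hk
      simp only [Category.assoc] at hk
      have hR : b ≫ πC.f n ≫ s.f'' ≫ I''.d n (n + 1) = π₃ ≫ π ≫ y ≫ a ≫ πI.f (n + 1) := by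
        rw [← Category.assoc (πC.f n), s.comm₂, Category.assoc, πI.comm, ← Category.assoc s.f, ← ha,
          Category.assoc, ← Category.assoc b, hbd]
        simp only [Preadditive.sub_comp, Category.assoc]
        rw [← Category.assoc (jC.f (n + 1)) a, haj]
        simp [wI]
      rw [← cancel_epi (π₃ ≫ π)]
      simp only [Category.assoc]
      rw [hk, hR]
  exact ⟨⟨a', a, a'', haj, haπ, presCyc_next (hC' _ n.succ_pos) _ _ ha', presCyc_next (hC _ n.succ_pos) _ _ ha,
    presCyc_next (hC'' _ n.succ_pos) _ _ ha''⟩, ha', ha, ha''⟩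

theorem base (mI0 : Mono (jI.f 0))
    (z' : C'.cycles 0 ⟶ I'.cycles 0) (z : C.cycles 0 ⟶ I.cycles 0) (z'' : C''.cycles 0 ⟶ I''.cycles 0)
    (hz₁ : HomologicalComplex.cyclesMap jC 0 ≫ z = z' ≫ HomologicalComplex.cyclesMap jI 0)
    (hz₂ : HomologicalComplex.cyclesMap πC 0 ≫ z'' = z ≫ HomologicalComplex.cyclesMap πI 0) :
    ∃ s : St C' C C'' I' I I'' jC πC jI πI 0, C'.iCycles 0 ≫ s.f' = z' ≫ I'.iCycles 0 ∧
      C.iCycles 0 ≫ s.f = z ≫ I.iCycles 0 ∧ C''.iCycles 0 ≫ s.f'' = z'' ≫ I''.iCycles 0 := by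
  have := injI' 0
  have := injI 0
  have := injI'' 0
  obtain ⟨a', ha'⟩ := ext_one (C'.iCycles 0) (z' ≫ I'.iCycles 0) fun T x hx => by
    rw [show x = 0 from (cancel_mono (C'.iCycles 0)).1 (hx.trans zero_comp.symm), zero_comp]
  obtain ⟨a, ha, haj⟩ := ext_two (C.iCycles 0) (jC.f 0) (z ≫ I.iCycles 0) (a' ≫ jI.f 0) fun T x y hxy => by
    have hy : y ≫ C'.d 0 1 = 0 := by
      have := mC 1
      rw [← cancel_mono (jC.f 1), zero_comp, Category.assoc, ← jC.comm, ← Category.assoc, ← hxy]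
      simp
    obtain ⟨c, rfl⟩ : ∃ c, c ≫ C'.iCycles 0 = y := ⟨C'.liftCycles y 1 (by simp) hy, C'.liftCycles_i _ _ _ _⟩
    rw [Category.assoc, ← HomologicalComplex.cyclesMap_i, ← Category.assoc, cancel_mono] at hxy
    rw [hxy, Category.assoc, ← Category.assoc (HomologicalComplex.cyclesMap jC 0), hz₁, Category.assoc,
      HomologicalComplex.cyclesMap_i, ← Category.assoc z', ← ha']
    simp only [Category.assoc]
  obtain ⟨a'', ha'', haπ⟩ := ext_two (C''.iCycles 0) (πC.f 0) (z'' ≫ I''.iCycles 0) (a ≫ πI.f 0)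
    fun T x y hxy => by
      have hπ : (y ≫ C.d 0 1) ≫ πC.f 1 = 0 := by
        rw [Category.assoc, ← πC.comm, ← Category.assoc, ← hxy]
        simp
      obtain ⟨T₁, π₁, _, c', hc⟩ :=
        ((ShortComplex.mk (jC.f 1) (πC.f 1) (wC 1)).exact_iff_exact_up_to_refinements).1
          (exC 1) (y ≫ C.d 0 1) hπ
      dsimp at c' hc
      have hc' : c' ≫ C'.d 1 2 = 0 := by
        have := mC 2
        rw [← cancel_mono (jC.f 2), zero_comp, Category.assoc, ← jC.comm, ← Category.assoc, ← hc]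
        simp
      obtain ⟨T₂, π₂, _, e, he⟩ := exact_refine C' 0 (hC' 1 one_pos) c' hc'
      let π := π₂ ≫ π₁
      have hcyc : (π ≫ y - e ≫ jC.f 0) ≫ C.d 0 1 = 0 := by
        simp only [π, Preadditive.sub_comp, Category.assoc, jC.comm]
        rw [hc, ← Category.assoc e, ← he, Category.assoc, sub_self]
      obtain ⟨c, hcz⟩ : ∃ c, c ≫ C.iCycles 0 = π ≫ y - e ≫ jC.f 0 :=
        ⟨C.liftCycles _ 1 (by simp) hcyc, C.liftCycles_i _ _ _ _⟩
      have hxc : π ≫ x = c ≫ HomologicalComplex.cyclesMap πC 0 := by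
        rw [← cancel_mono (C''.iCycles 0)]
        simp only [Category.assoc, hxy, HomologicalComplex.cyclesMap_i]
        rw [← Category.assoc c, hcz]
        simp [wC 0]
      have hy : π ≫ y = c ≫ C.iCycles 0 + e ≫ jC.f 0 := by rw [hcz, sub_add_cancel]
      rw [← cancel_epi π, ← Category.assoc π x, hxc, Category.assoc,
        ← Category.assoc (HomologicalComplex.cyclesMap πC 0), hz₂, Category.assoc,
        HomologicalComplex.cyclesMap_i, ← Category.assoc z, ← ha, ← Category.assoc π y, hy,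
        Preadditive.add_comp, Category.assoc e, ← Category.assoc (jC.f 0), haj]
      simp [wI 0]
  exact ⟨⟨a', a, a'', haj, haπ, presCyc_of_cycles _ z' ha', presCyc_of_cycles _ z ha,
    presCyc_of_cycles _ z'' ha''⟩, ha', ha, ha''⟩

end Groth.Agent.CechLadder
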